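import Groth.Agent.GenFibNearLib.AssScheme
import Mathlib

/-! # Spreading an associated point of a fibre along its closure -/

set_option autoImplicit false
set_option backward.isDefEq.respectTransparency false
set_option linter.all false
set_option maxHeartbeats 1000000
universe u

open Pointwise GenFibNearLib AlgebraicGeometry CategoryTheory DevissLib
open scoped TensorProduct

namespace Groth.Agent.CompSetLib

variable {R : Type u} [CommRing R] {B : Type u} [CommRing B] [Algebra R B]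
  {M : Type u} [AddCommGroup M] [Module B M] [Module R M] [IsScalarTower R B M]

theorem exists_map_of_mem_span_smul {p : Ideal R} (xN : M)
    (N : Submodule B M) (hN : N = Submodule.span B {xN}) {z : N} (hz : z ∈ p • (⊤ : Submodule R N)) :
    ∃ c ∈ p.map (algebraMap R B), (z : M) = c • xN := by
  induction hz using Submodule.smul_induction_on' with
  | smul r hr w _ =>
    obtain ⟨b, hb⟩ := Submodule.mem_span_singleton.1 (hN ▸ w.2 : (w : M) ∈ Submodule.span B {xN})
    refine ⟨algebraMap R B r * b, Ideal.mul_mem_right _ _ (Ideal.mem_map_of_mem _ hr), ?_⟩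
    rw [mul_smul, hb, algebraMap_smul]
    rfl
  | add x _ y _ hx hy =>
    obtain ⟨c, hc, hcx⟩ := hx
    obtain ⟨d, hd, hdy⟩ := hy
    exact ⟨c + d, add_mem hc hd, by rw [Submodule.coe_add, add_smul, hcx, hdy]⟩

/-- An annihilator at the generic point controls the annihilators near it. -/
theorem exists_annAt_near [IsDomain R] [Algebra.FiniteType R B] [Module.Finite B M] (m : M) (I : Ideal B)
    (hI : ∀ g ∈ I, ZeroAt (⊥ : Ideal R) (g • m)) (hle : ∀ b : B, b • m = 0 → b ∈ I) :
    ∃ f : R, f ≠ 0 ∧ ∀ p : Ideal R, ∀ _ : p.IsPrime, f ∉ p → I ≤ annAt p m ∧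
      ∀ P : Ideal B, P.IsPrime → I ≤ P → P.comap (algebraMap R B) = p → annAt p m ≤ P := by
  let N : Submodule B M := Submodule.span B {m}
  haveI : Module.Finite B N := Module.Finite.span_of_finite B (Set.finite_singleton m)
  obtain ⟨f₀, hf₀, hfree₀, -⟩ := FlatLib.generic_freeness_fp (R := R) (S := B) (M := M)
  obtain ⟨f₁, hf₁, hfree₁, -⟩ := FlatLib.generic_freeness_fp (R := R) (S := B) (M := N)
  obtain ⟨f₂, hf₂, hfree₂, -⟩ := FlatLib.generic_freeness_fp (R := R) (S := B) (M := M ⧸ N)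
  let f := f₁ * f₂
  refine ⟨f₀ * f, mul_ne_zero hf₀ (mul_ne_zero hf₁ hf₂), fun p hp hfp => ⟨fun g hg => ?_, ?_⟩⟩
  · obtain ⟨r, hr, hrg⟩ := zeroAt_bot (hI g hg)
    obtain ⟨n, hn⟩ := pow_smul_eq_zero (M := M) hf₀ hr hrg
    exact ⟨f₀ ^ n, fun h => hfp (p.mul_mem_right _ (hp.mem_of_pow_mem n h)), by rw [hn]; exact zero_mem _⟩
  intro P hP hIP hPp b hb
  replace hfp : f ∉ p := fun h => hfp (p.mul_mem_left _ h)
  let A := Localization.Away f
  have hu := IsLocalization.Away.algebraMap_isUnit (S := A) f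
  haveI : Module.Free A (A ⊗[R] N) := FlatLib.free_tensor_of_isUnit _
    (isUnit_of_dvd_unit (map_dvd _ ⟨f₂, rfl⟩) hu) hfree₁
  haveI : Module.Free A (A ⊗[R] (M ⧸ N)) := FlatLib.free_tensor_of_isUnit _
    (isUnit_of_dvd_unit (map_dvd _ ⟨f₁, mul_comm _ _⟩) hu) hfree₂
  haveI : Module.Flat R A := IsLocalization.flat A (Submonoid.powers f)
  let u : N →ₗ[R] M := N.subtype.restrictScalars R
  have huv : Function.Exact u (N.mkQ.restrictScalars R) := LinearMap.exact_subtype_mkQ N
  have huA : Function.Injective (u.baseChange A) :=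
    Module.Flat.lTensor_preserves_injective_linearMap (M := A) u N.injective_subtype
  letI : Algebra A p.ResidueField :=
    (IsLocalization.Away.lift (g := algebraMap R p.ResidueField) f (residueField_isUnit hfp)).toAlgebra
  haveI : IsScalarTower R A p.ResidueField :=
    IsScalarTower.of_algebraMap_eq fun r => (IsLocalization.Away.lift_eq f _ r).symm
  have hK := injective_baseChange u _ huv N.mkQ_surjective A huA p.ResidueField
  let bm : N := ⟨b • m, N.smul_mem b (Submodule.mem_span_singleton_self m)⟩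
  have hz : ZeroAt p bm := by
    refine (one_tmul_eq_zero_iff bm).1 (hK (Eq.trans ?_ (map_zero (u.baseChange p.ResidueField)).symm))
    exact (LinearMap.baseChange_tmul (f := u) (1 : p.ResidueField) bm).trans ((one_tmul_eq_zero_iff (b • m)).2 hb)
  obtain ⟨r, hr, hrm⟩ := hz
  obtain ⟨c, hc, hcm⟩ := exists_map_of_mem_span_smul m N rfl hrm
  have h0 : (algebraMap R B r * b - c) • m = 0 := by
    rw [sub_smul, mul_smul, algebraMap_smul, sub_eq_zero, ← hcm]
    rfl
  have h1 : algebraMap R B r * b ∈ P := by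
    have := add_mem (hIP (hle _ h0)) (Ideal.map_le_iff_le_comap.2 hPp.ge hc)
    simpa using this
  exact (hP.mem_or_mem h1).resolve_left fun h => hr (hPp.le h)

section Quot

variable (M) (a : Ideal R)

/-- the reduction of the module modulo an ideal of the base -/
abbrev QMod : Type u := M ⧸ (a.map (algebraMap R B) • (⊤ : Submodule B M))

variable (B) in
/-- scalars from the quotient of the base -/
@[reducible] def qModule : Module (R ⧸ a) (QMod (B := B) M a) :=
  Module.compHom _ (Ideal.quotientMap (a.map (algebraMap R B)) (algebraMap R B) Ideal.le_comap_map)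

variable {M}

theorem q_mk_smul (r : R) (m : M) :
    letI := qModule B M a
    Ideal.Quotient.mk a r • (Submodule.Quotient.mk m : QMod (B := B) M a) = Submodule.Quotient.mk (r • m) := by
  letI := qModule B M a
  change Ideal.Quotient.mk (a.map (algebraMap R B)) (algebraMap R B r) • (Submodule.Quotient.mk m : QMod (B := B) M a) = _
  rw [← algebraMap_smul B r m, Submodule.Quotient.mk_smul]
  rfl

theorem map_smul_le {p : Ideal R} (hap : a ≤ p) {m : M}
    (hm : m ∈ a.map (algebraMap R B) • (⊤ : Submodule B M)) : m ∈ p • (⊤ : Submodule R M) := by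
  let P : Submodule B M := { carrier := {m | m ∈ p • (⊤ : Submodule R M)}
                             zero_mem' := Submodule.zero_mem (p • (⊤ : Submodule R M))
                             add_mem' := fun ha hb => Submodule.add_mem (p • (⊤ : Submodule R M)) ha hb
                             smul_mem' := fun b _ h => smul_mem_top' b h }
  refine (Submodule.smul_le.2 (fun c hc z _ => ?_) : a.map (algebraMap R B) • (⊤ : Submodule B M) ≤ P) hm
  revert z
  induction hc using Submodule.span_induction with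
  | mem c hc =>
    obtain ⟨r, hr, rfl⟩ := hc
    intro z _
    change algebraMap R B r • z ∈ p • (⊤ : Submodule R M)
    rw [algebraMap_smul]
    exact smul_mem_top (hap hr) z
  | zero => intro z _; rw [zero_smul]; exact P.zero_mem
  | add a b _ _ ha hb => intro z hz; rw [add_smul]; exact P.add_mem (ha z hz) (hb z hz)
  | smul a b _ hb => intro z hz; rw [smul_eq_mul, mul_smul]; exact P.smul_mem a (hb z hz)

theorem zeroAt_q_iff (p : Ideal R) (hap : a ≤ p) (q : Ideal (R ⧸ a))
    (hq : ∀ r, Ideal.Quotient.mk a r ∈ q ↔ r ∈ p) (m : M) :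
    letI := qModule B M a
    ZeroAt q (Submodule.Quotient.mk m : QMod (B := B) M a) ↔ ZeroAt p m := by
  letI := qModule B M a
  constructor
  · rintro ⟨s, hs, h⟩
    obtain ⟨r, rfl⟩ := Ideal.Quotient.mk_surjective s
    refine ⟨r, fun hr => hs ((hq r).2 hr), ?_⟩
    rw [q_mk_smul] at h
    have key : ∀ z ∈ q • (⊤ : Submodule (R ⧸ a) (QMod (B := B) M a)),
        ∃ w ∈ p • (⊤ : Submodule R M), z = Submodule.Quotient.mk w := fun z hz => by
      induction hz using Submodule.smul_induction_on' with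
      | smul c hc x _ =>
        obtain ⟨c, rfl⟩ := Ideal.Quotient.mk_surjective c
        obtain ⟨x, rfl⟩ := Submodule.Quotient.mk_surjective _ x
        exact ⟨c • x, smul_mem_top ((hq c).1 hc) x, q_mk_smul a c x⟩
      | add x _ y _ hx hy =>
        obtain ⟨w, hw, rfl⟩ := hx
        obtain ⟨w', hw', rfl⟩ := hy
        exact ⟨w + w', add_mem hw hw', rfl⟩
    obtain ⟨w, hw, he⟩ := key _ h
    have hd := map_smul_le a hap ((Submodule.Quotient.eq _).1 he)
    simpa using add_mem hd hw
  · rintro ⟨r, hr, h⟩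
    refine ⟨Ideal.Quotient.mk _ r, fun h' => hr ((hq r).1 h'), ?_⟩
    rw [q_mk_smul]
    clear hr
    generalize r • m = z at h ⊢
    induction h using Submodule.smul_induction_on' with
    | smul c hc x _ => rw [← q_mk_smul]; exact smul_mem_top ((hq c).2 hc) _
    | add x _ y _ hx hy => rw [Submodule.Quotient.mk_add]; exact add_mem hx hy

/-- An annihilator at a prime of the base controls the annihilators on an open part of its closure. -/
theorem exists_annAt_spread [ha : a.IsPrime] [Algebra.FiniteType R B] [Module.Finite B M] (m : M) (I : Ideal B)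
    (hI : I ≤ annAt a m) (hle : annAt a m ≤ I) :
    ∃ f : R, f ∉ a ∧ ∀ p : Ideal R, ∀ _ : p.IsPrime, a ≤ p → f ∉ p → I ≤ annAt p m ∧
      ∀ P : Ideal B, P.IsPrime → I ≤ P → P.comap (algebraMap R B) = p → annAt p m ≤ P := by
  letI := qModule B M a
  let aB := a.map (algebraMap R B)
  let φ : R ⧸ a →+* B ⧸ aB := Ideal.quotientMap aB (algebraMap R B) Ideal.le_comap_map
  letI : Algebra (R ⧸ a) (B ⧸ aB) := φ.toAlgebra
  haveI : Algebra.FiniteType (R ⧸ a) (B ⧸ aB) := RingHom.finiteType_algebraMap.1 <| by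
    refine RingHom.FiniteType.of_comp_finiteType (f := Ideal.Quotient.mk a) ?_
    have := (RingHom.FiniteType.of_surjective _ (Ideal.Quotient.mk_surjective (I := aB))).comp
      (RingHom.finiteType_algebraMap.2 ‹Algebra.FiniteType R B›)
    exact this
  haveI : IsScalarTower (R ⧸ a) (B ⧸ aB) (QMod (B := B) M a) :=
    IsScalarTower.of_algebraMap_smul fun _ _ => rfl
  haveI : Module.Finite (B ⧸ aB) (QMod (B := B) M a) := Module.Finite.of_restrictScalars_finite B _ _
  haveI : IsDomain (R ⧸ a) := inferInstance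
  have h0 : ∀ r, Ideal.Quotient.mk a r ∈ (⊥ : Ideal _) ↔ r ∈ a := fun r => by
    rw [Submodule.mem_bot]; exact Ideal.Quotient.eq_zero_iff_mem
  haveI : (⊥ : Ideal (R ⧸ a)).IsPrime := Ideal.isPrime_bot
  obtain ⟨f, hf, hF⟩ := exists_annAt_near (R := R ⧸ a) (B := B ⧸ aB) (M := QMod (B := B) M a)
    (Submodule.Quotient.mk m) (I.map (Ideal.Quotient.mk aB))
    (fun g hg => by
      obtain ⟨g, hgI, rfl⟩ := (Ideal.mem_map_iff_of_surjective _ Ideal.Quotient.mk_surjective).1 hg
      exact (zeroAt_q_iff a a le_rfl _ h0 (g • m)).2 (hI hgI))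
    (fun b hb => by
      obtain ⟨b, rfl⟩ := Ideal.Quotient.mk_surjective b
      refine Ideal.mem_map_of_mem _ (hle ((zeroAt_q_iff (B := B) a a le_rfl _ h0 (b • m)).1 ?_))
      have hb' : (Submodule.Quotient.mk (b • m) : QMod (B := B) M a) = 0 := hb
      rw [hb']
      exact zeroAt_zero)
  obtain ⟨f, rfl⟩ := Ideal.Quotient.mk_surjective f
  refine ⟨f, fun h => hf (Ideal.Quotient.eq_zero_iff_mem.2 h), fun p hp hap hfp => ?_⟩
  have hq : ∀ r, Ideal.Quotient.mk a r ∈ p.map (Ideal.Quotient.mk a) ↔ r ∈ p := fun r =>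
    Ideal.mem_quotient_iff_mem hap
  haveI hqp : (p.map (Ideal.Quotient.mk a)).IsPrime :=
    Ideal.map_isPrime_of_surjective Ideal.Quotient.mk_surjective (by rw [Ideal.mk_ker]; exact hap)
  obtain ⟨h1, h2⟩ := hF _ hqp (fun h => hfp ((hq f).1 h))
  refine ⟨fun g hg => (zeroAt_q_iff a p hap _ hq (g • m)).1 (h1 (Ideal.mem_map_of_mem _ hg)),
    fun P hP hIP hPp b hb => ?_⟩
  haveI := hP
  have haP : aB ≤ P := Ideal.map_le_iff_le_comap.2 (hap.trans hPp.ge)
  have hmemP : ∀ c, Ideal.Quotient.mk aB c ∈ P.map (Ideal.Quotient.mk aB) ↔ c ∈ P := fun c =>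
    Ideal.mem_quotient_iff_mem haP
  refine (hmemP b).1 (h2 _ (Ideal.map_isPrime_of_surjective Ideal.Quotient.mk_surjective
    (by rw [Ideal.mk_ker]; exact haP)) (Ideal.map_mono hIP) ?_ ?_)
  · ext r
    obtain ⟨r, rfl⟩ := Ideal.Quotient.mk_surjective r
    rw [hq r, Ideal.mem_comap, ← hPp, Ideal.mem_comap]
    exact hmemP (algebraMap R B r)
  · exact (zeroAt_q_iff a p hap _ hq (b • m)).2 hb

end Quot

/-- At a minimal prime over a subset of an annihilator contained in it there is an element with that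
annihilator. -/
theorem exists_annAt_eq_minimal [Algebra.FiniteType R B] (p : Ideal R) [hp : p.IsPrime] {I : Ideal B}
    (P : Ideal B) [hP : P.IsPrime] (hPp : P.comap (algebraMap R B) = p)
    (hmin : ∀ P' : Ideal B, P'.IsPrime → I ≤ P' → P' ≤ P → P'.comap (algebraMap R B) = p → P' = P)
    {m : M} (hI : I ≤ annAt p m) (hle : annAt p m ≤ P) :
    ∃ m' : M, annAt p m' = P := by
  classical
  let iR := (Algebra.TensorProduct.includeRight : B →ₐ[R] p.Fiber B).toRingHom
  haveI : IsNoetherianRing (p.Fiber B) := Algebra.FiniteType.isNoetherianRing p.ResidueField _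
  let S : Set (Ideal (p.Fiber B)) := {J | ∃ m' : M, I ≤ annAt p m' ∧ annAt p m' ≤ P ∧ J = (annAt p m').map iR}
  obtain ⟨J, ⟨m', hI', hle', rfl⟩, hmax⟩ := set_has_maximal_iff_noetherian.2 ‹IsNoetherianRing (p.Fiber B)› S
    ⟨_, m, hI, hle, rfl⟩
  have hmax' : ∀ b : B, annAt (B := B) p (b • m') ≤ P → annAt (B := B) p (b • m') ≤ annAt p m' := by
    intro b hb c hc
    have hle'' : (annAt p m' : Ideal B) ≤ annAt p (b • m') := fun d hd => by
      rw [mem_annAt, smul_comm]; exact zeroAt_smul b hd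
    have heq : (annAt p m').map iR = (annAt p (b • m')).map iR :=
      eq_of_le_of_not_lt (Ideal.map_mono hle'') (hmax _ ⟨b • m', hI'.trans hle'', hb, rfl⟩)
    refine mem_annAt_of_map le_rfl ?_
    change iR c ∈ _
    rw [heq]
    exact Ideal.mem_map_of_mem iR hc
  refine ⟨m', le_antisymm hle' fun c hc => ?_⟩
  let T : Submonoid B :=
    { carrier := {d | ∃ t, t ∉ P ∧ ∃ n : ℕ, d = t * c ^ n}
      one_mem' := ⟨1, (Ideal.ne_top_iff_one P).1 hP.ne_top, 0, by simp⟩
      mul_mem' := by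
        rintro _ _ ⟨t, ht, n, rfl⟩ ⟨t', ht', n', rfl⟩
        exact ⟨t * t', fun h => (hP.mem_or_mem h).elim ht ht', n + n', by ring⟩ }
  have hex : ∃ n : ℕ, ∃ t, t ∉ P ∧ t * c ^ n ∈ annAt p m' := by
    by_contra hno
    have hdis : Disjoint ((annAt p m' : Ideal B) : Set B) (T : Set B) := by
      rw [Set.disjoint_left]
      rintro d hd ⟨t, ht, n, rfl⟩
      exact hno ⟨n, t, ht, hd⟩
    obtain ⟨P', hP', hle'', hdis'⟩ := Ideal.exists_le_prime_disjoint _ T hdis
    have hP'P : P' ≤ P := fun d hd => by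
      by_contra hdP
      exact Set.disjoint_left.1 hdis' hd ⟨d, hdP, 0, by simp⟩
    have hcomap : P'.comap (algebraMap R B) = p := le_antisymm
      ((Ideal.comap_mono hP'P).trans hPp.le)
      fun r hr => hle'' (map_le_annAt m' (Ideal.mem_map_of_mem _ hr))
    have h := hmin P' hP' (hI'.trans hle'') hP'P hcomap
    subst h
    exact Set.disjoint_left.1 hdis' hc ⟨1, (Ideal.ne_top_iff_one P').1 hP.ne_top, 1, by simp⟩
  obtain ⟨t, ht, hk⟩ := Nat.find_spec hex
  have hk0 : Nat.find hex ≠ 0 := fun h0 => by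
    rw [h0, pow_zero, mul_one] at hk
    exact ht (hle' hk)
  have h1 : annAt p (c ^ (Nat.find hex - 1) • m') ≤ P := fun b hb => by
    by_contra hbP
    refine Nat.find_min hex (Nat.sub_one_lt hk0) ⟨b, hbP, ?_⟩
    rw [mem_annAt, mul_smul]
    exact hb
  have h2 : t * c ∈ annAt p (c ^ (Nat.find hex - 1) • m') := by
    rw [mem_annAt, ← mul_smul, mul_assoc, ← pow_succ', Nat.sub_add_cancel (Nat.pos_of_ne_zero hk0)]
    exact hk
  have h3 : c ∈ annAt p (t • m') := by
    rw [mem_annAt, ← mul_smul, mul_comm]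
    exact hmax' _ h1 h2
  refine hmax' t (fun b hb => ?_) h3
  rw [mem_annAt, ← mul_smul] at hb
  exact (hP.mem_or_mem (hle' hb)).resolve_right ht

section Local

variable {BL : Type u} [CommRing BL] [Algebra B BL] [Algebra R BL] [IsScalarTower R B BL]
  {ML : Type u} [AddCommGroup ML] [Module BL ML] [Module B ML] [IsScalarTower B BL ML]
  (Q : Ideal B) [Q.IsPrime] [IsLocalization.AtPrime BL Q] (ℓ : M →ₗ[B] ML) [IsLocalizedModule Q.primeCompl ℓ]

include ℓ in
theorem exists_annAt_eq_of_isAssociated [Algebra.FiniteType R B] [IsLocalRing BL] (p : Ideal R) [p.IsPrime]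
    (hQp : Q.comap (algebraMap R B) = p)
    (h : IsAssociatedPrime (IsLocalRing.maximalIdeal BL) (ML ⧸ p.map (algebraMap R BL) • (⊤ : Submodule BL ML))) :
    ∃ m : M, Q ≤ annAt p m ∧ annAt p m ≤ Q := by
  classical
  obtain ⟨G, hG, hGgen⟩ := exists_finset_gen (M := M) p Q
  obtain ⟨-, x, hx⟩ := h
  have hxne : x ≠ 0 := fun h0 => by
    subst h0
    refine (IsLocalRing.maximalIdeal.isMaximal BL).ne_top (hx.trans ?_)
    rw [Ideal.radical_eq_top, Ideal.eq_top_iff_one, Submodule.mem_colon_singleton, Submodule.mem_bot, smul_zero]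
  have key : ∀ G' : Finset B, (∀ g ∈ G', g ∈ Q) →
      ∃ y : BL, y • x ≠ 0 ∧ ∀ g ∈ G', algebraMap B BL g • y • x = 0 := by
    intro G'
    induction G' using Finset.induction_on with
    | empty => exact fun _ => ⟨1, by rwa [one_smul], fun g hg => absurd hg (Finset.notMem_empty g)⟩
    | insert a s ha ih =>
      intro hs
      obtain ⟨y, hy, hys⟩ := ih fun g hg => hs g (Finset.mem_insert_of_mem hg)
      have hmem : algebraMap B BL a ∈ IsLocalRing.maximalIdeal BL :=
        (IsLocalization.AtPrime.to_map_mem_maximal_iff BL Q a).2 (hs a (Finset.mem_insert_self a s))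
      rw [hx] at hmem
      obtain ⟨N, hN⟩ := hmem
      rw [Submodule.mem_colon_singleton, Submodule.mem_bot] at hN
      have hex : ∃ k, algebraMap B BL a ^ k • y • x = 0 := ⟨N, by rw [smul_comm, hN, smul_zero]⟩
      have hk : Nat.find hex ≠ 0 := fun h0 => hy (by
        have := Nat.find_spec hex
        rwa [h0, pow_zero, one_smul] at this)
      refine ⟨algebraMap B BL a ^ (Nat.find hex - 1) * y, ?_, fun g hg => ?_⟩
      · rw [mul_smul]
        exact Nat.find_min hex (Nat.sub_one_lt hk)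
      · rcases Finset.mem_insert.1 hg with rfl | hg
        · rw [mul_smul, ← mul_smul (algebraMap B BL g), ← pow_succ', Nat.sub_add_cancel (Nat.pos_of_ne_zero hk)]
          exact Nat.find_spec hex
        · rw [mul_smul, smul_comm, hys g hg, smul_zero]
  obtain ⟨y, hy, hyG⟩ := key G fun g hg => hG hg
  obtain ⟨z, hz⟩ := Submodule.Quotient.mk_surjective _ (y • x)
  obtain ⟨⟨m, s⟩, hm⟩ := IsLocalizedModule.surj Q.primeCompl ℓ z
  have hm' : (Submodule.Quotient.mk (ℓ m) : ML ⧸ p.map (algebraMap R BL) • (⊤ : Submodule BL ML)) =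
      algebraMap B BL s.1 • y • x := by
    rw [← hz, ← Submodule.Quotient.mk_smul, algebraMap_smul]
    exact congrArg _ hm.symm
  have hgm : ∀ g : G, ∃ t : B, t ∉ Q ∧ t • g.1 • m ∈ p • (⊤ : Submodule R M) := fun g =>
    (smul_mk_eq_zero_iff Q ℓ p g.1 m).1 (by rw [hm', smul_comm, hyG g.1 g.2, smul_zero])
  choose t ht htm using hgm
  refine ⟨(∏ g, t g) • m, fun b hb => ?_, fun b hb => ?_⟩
  · refine hGgen _ (fun g hg => ⟨1, (Ideal.ne_top_iff_one p).1 ‹p.IsPrime›.ne_top, ?_⟩) b hb
    rw [one_smul, ← Finset.prod_erase_mul _ _ (Finset.mem_univ (⟨g, hg⟩ : G)), mul_smul, smul_comm]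
    exact smul_mem_top' _ (by rw [smul_comm]; exact htm ⟨g, hg⟩)
  · by_contra hbQ
    obtain ⟨r, hr, hrm⟩ := hb
    refine hy ?_
    have h0 : (Submodule.Quotient.mk (ℓ m) : ML ⧸ p.map (algebraMap R BL) • (⊤ : Submodule BL ML)) = 0 := by
      rw [Submodule.Quotient.mk_eq_zero, mem_smul_iff Q ℓ]
      refine ⟨algebraMap R B r * b * ∏ g, t g, fun h => ?_, by rw [mul_smul, mul_smul, algebraMap_smul]; exact hrm⟩
      rcases ‹Q.IsPrime›.mem_or_mem h with h | h
      · rcases ‹Q.IsPrime›.mem_or_mem h with h | h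
        · exact hr (hQp.le h)
        · exact hbQ h
      · obtain ⟨g, -, hg⟩ := ‹Q.IsPrime›.prod_mem_iff.1 h
        exact ht g hg
    rw [hm'] at h0
    exact (IsLocalization.map_units BL s).smul_eq_zero.1 h0

end Local

variable {X S : Scheme.{u}} (f : X ⟶ S) [LocallyOfFiniteType f] (F : X.Modules) [Coh.IsQCoh F]

/-- A relative associated point has an open part of its closure whose fibrewise maximal points are
relative associated points. -/
theorem exists_open_relAss (hF : CohB1.IsFT F) (ξ : X) (hξ : ξ ∈ MoreMor.relAss f F) :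
    ∃ O : X.Opens, ξ ∈ O ∧ ∀ x : X, x ∈ O → ξ ⤳ x →
      (∀ v : X, f.base v = f.base x → ξ ⤳ v → v ⤳ x → v = x) → x ∈ MoreMor.relAss f F := by
  obtain ⟨W, hW, hfξ, -⟩ := exists_isAffineOpen_mem_and_subset (x := f.base ξ) (U := ⊤) trivial
  obtain ⟨V, hV, hξV, (e : V ≤ f ⁻¹ᵁ W)⟩ := exists_isAffineOpen_mem_and_subset (x := ξ) (U := f ⁻¹ᵁ W) hfξ
  letI := chartAlg f e
  letI := chartMod f F e
  haveI := chartTower f F e
  haveI : Algebra.FiniteType Γ(S, W) Γ(X, V) := RingHom.finiteType_algebraMap.1 (f.finiteType_appLE hW hV e)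
  haveI : Module.Finite Γ(X, V) Γ(F, V) := QCohLib.finite_of_isFT hF hV
  let a := (hW.primeIdealOf ⟨f ξ, e hξV⟩).asIdeal
  let Q := (hV.primeIdealOf ⟨ξ, hξV⟩).asIdeal
  obtain ⟨m, hm₁, hm₂⟩ : ∃ m : Γ(F, V), Q ≤ annAt a m ∧ annAt a m ≤ Q := by
    letI := stalkMod F hξV
    haveI := isLocalizedModule_gmLin F hV hξV
    letI := X.presheaf.algebra_section_stalk (⟨ξ, hξV⟩ : V)
    haveI : IsLocalization.AtPrime (X.presheaf.stalk ξ) Q := hV.isLocalization_stalk ⟨ξ, hξV⟩
    letI : Algebra Γ(S, W) (X.presheaf.stalk ξ) :=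
      ((X.presheaf.germ V ξ hξV).hom.comp (f.appLE W V e).hom).toAlgebra
    haveI : IsScalarTower Γ(S, W) Γ(X, V) (X.presheaf.stalk ξ) := IsScalarTower.of_algebraMap_eq fun _ => rfl
    haveI : IsScalarTower Γ(X, V) (X.presheaf.stalk ξ) ((St ξ).obj F) :=
      IsScalarTower.of_algebraMap_smul fun _ _ => rfl
    refine exists_annAt_eq_of_isAssociated (ML := (St ξ).obj F) (BL := X.presheaf.stalk ξ)
      Q (gmLin F hξV) a (comap_primeIdealOf' f hW hV e hξV) ?_
    rw [RingHom.algebraMap_toAlgebra, ← stalk_ideal_eq f hW e hξV]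
    exact hξ
  haveI : a.IsPrime := (hW.primeIdealOf ⟨f ξ, e hξV⟩).2
  obtain ⟨r, hr, hF'⟩ := exists_annAt_spread a m Q hm₁ hm₂
  refine ⟨X.basicOpen ((f.appLE W V e).hom r), ?_, fun x hxO hsp hmax => ?_⟩
  · show ((⟨ξ, hξV⟩ : V) : X) ∈ X.basicOpen _
    rw [← hV.fromSpec_primeIdealOf ⟨ξ, hξV⟩]
    show hV.primeIdealOf ⟨ξ, hξV⟩ ∈ hV.fromSpec ⁻¹ᵁ X.basicOpen _
    rw [hV.fromSpec_preimage_basicOpen]
    intro h
    exact hr ((comap_primeIdealOf' f hW hV e hξV).le h)
  have hxV : x ∈ V := X.basicOpen_le _ hxO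
  let P := hV.primeIdealOf ⟨x, hxV⟩
  let p := (hW.primeIdealOf ⟨f x, e hxV⟩).asIdeal
  haveI : p.IsPrime := (hW.primeIdealOf ⟨f x, e hxV⟩).2
  haveI : P.asIdeal.IsPrime := P.2
  have hPp : P.asIdeal.comap (algebraMap Γ(S, W) Γ(X, V)) = p := comap_primeIdealOf' f hW hV e hxV
  have hQP : Q ≤ P.asIdeal := by
    refine (PrimeSpectrum.le_iff_specializes (hV.primeIdealOf ⟨ξ, hξV⟩) P).2 (hV.fromSpec.isOpenEmbedding.isInducing.specializes_iff.1 ?_)
    rwa [hV.fromSpec_primeIdealOf, hV.fromSpec_primeIdealOf]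
  have hap : a ≤ p := by
    have ha' : a = Q.comap (algebraMap Γ(S, W) Γ(X, V)) := (comap_primeIdealOf' f hW hV e hξV).symm
    exact ha'.le.trans ((Ideal.comap_mono hQP).trans hPp.le)
  have hrp : r ∉ p := by
    intro h
    have hx' : P ∈ hV.fromSpec ⁻¹ᵁ X.basicOpen ((f.appLE W V e).hom r) := by
      show hV.fromSpec P ∈ X.basicOpen _
      rw [hV.fromSpec_primeIdealOf]
      exact hxO
    rw [hV.fromSpec_preimage_basicOpen] at hx'
    exact hx' (hPp.ge h)
  obtain ⟨h1, h2⟩ := hF' p inferInstance hap hrp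
  obtain ⟨m', hm'⟩ := exists_annAt_eq_minimal (M := Γ(F, V)) p P.asIdeal hPp
    (fun P' hP' hQP' hP'P hP'p => by
      let v := hV.fromSpec ⟨P', hP'⟩
      have hvx : v ⤳ x := by
        have := specializes_of_le (hV := hV) (Q' := ⟨P', hP'⟩) (Q := P) hP'P
        rwa [hV.fromSpec_primeIdealOf] at this
      have hξv : ξ ⤳ v := by
        have := specializes_of_le (hV := hV) (Q' := hV.primeIdealOf ⟨ξ, hξV⟩) (Q := ⟨P', hP'⟩) hQP'
        rwa [hV.fromSpec_primeIdealOf] at this
      have hfv : f.base v = f.base x := by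
        show f (hV.fromSpec ⟨P', hP'⟩) = f x
        rw [AssPointLib.apply_fromSpec f hW hV e]
        refine Eq.trans ?_ (hW.fromSpec_primeIdealOf ⟨f x, e hxV⟩)
        exact congrArg _ (PrimeSpectrum.ext hP'p)
      have hv := hmax v hfv hξv hvx
      have : (⟨P', hP'⟩ : PrimeSpectrum Γ(X, V)) = P := hV.fromSpec.isOpenEmbedding.injective
        (hv.trans (hV.fromSpec_primeIdealOf ⟨x, hxV⟩).symm)
      exact congrArg PrimeSpectrum.asIdeal this)
    h1 (h2 P.asIdeal inferInstance hQP hPp)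
  exact mem_relAss_of_annAt f F hW hV e hxV m' hm'

end Groth.Agent.CompSetLib
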