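import Groth.Agent.CompSetLib.Main
import Groth.Agent.AssPointLib.Basic
import Groth.Agent.ConsLib.ModLoci
import Groth.Agent.DepthLib.NoEmbLoci
import Mathlib

/-! # Associated points of the fibres near the generic point of the base -/

set_option autoImplicit false
set_option backward.isDefEq.respectTransparency false
set_option linter.all false
set_option maxHeartbeats 1000000
universe u

open CategoryTheory AlgebraicGeometry Topology UOpenLib DepthLib

namespace Groth.Agent.CompSetLib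

variable {X S : Scheme.{u}} (f : X ⟶ S) (F : X.Modules)

/-- `z` is a maximal point of the trace of the closure of `x` on the fibre through `z`. -/
def IsTraceMax (x z : X) : Prop :=
  z ∈ closure ({x} : Set X) ∧ ∀ v : X, f.base v = f.base z → v ∈ closure ({x} : Set X) → v ⤳ z → v = z

/-- `z` is an associated point of the fibre module through it. -/
def IsFibAss (z : X) : Prop := z ∈ CohB1.support F ∧ rectDepth f F z = fibreClosureDim f z

def traceSet (x : X) (n : ℕ) : Set X := closure ({x} : Set X) \ fibWit f (closure ({x} : Set X)) (n + 1)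

def assSet (n : ℕ) : Set X := CohB1.support F ∩ {z | rectDepth f F z = ((n : ℕ∞) : WithBot ℕ∞)}

theorem isTraceMax_iff [LocallyOfFiniteType f] {x z : X} {n : ℕ}
    (hn : fibreClosureDim f z = (n : WithBot ℕ∞)) : IsTraceMax f x z ↔ z ∈ traceSet f x n := by
  constructor
  · rintro ⟨hz, hmax⟩
    refine ⟨hz, ?_⟩
    rintro ⟨v, hv, hfv, hvz, hm⟩
    rw [hmax v hfv hv hvz, hn, Nat.cast_le] at hm
    omega
  · rintro ⟨hz, hnot⟩
    refine ⟨hz, fun v hfv hv hvz => ?_⟩
    by_contra hne
    obtain ⟨c, r, -, hr, hcr, hc⟩ := closureDim_formula f hfv hvz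
    have := hc hne
    rw [hn] at hr
    have h3 : n = r := Nat.cast_injective hr
    exact hnot ⟨v, hv, hfv, hvz, by rw [hcr, Nat.cast_le]; omega⟩

theorem isFibAss_iff {z : X} {n : ℕ} (hn : fibreClosureDim f z = (n : WithBot ℕ∞)) :
    IsFibAss f F z ↔ z ∈ assSet f F n := by
  show _ ∧ _ ↔ _ ∧ _
  rw [hn]
  rfl

/-- The points breaking the description of the associated points by the finite set `A`. -/
def badSet (A Amax : Set X) (n : ℕ) : Set X :=
  ((assSet f F n \ ⋃ x ∈ A, traceSet f x n) ∪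
    ((⋃ x ∈ A, traceSet f x n) \ assSet f F n)) ∪
  ((⋃ x ∈ A, ⋃ x' ∈ A \ {x}, traceSet f x n ∩ traceSet f x' n) ∪
    (⋃ x ∈ Amax, ⋃ x' ∈ A, traceSet f x n ∩ fibWit f (closure ({x'} : Set X)) (n + 1)))

theorem isLocallyConstructible_biUnion {ι : Type u} {t : Set ι} (ht : t.Finite) {s : ι → Set X}
    (hs : ∀ i ∈ t, IsLocallyConstructible (s i)) : IsLocallyConstructible (⋃ i ∈ t, s i) := by
  induction t, ht using Set.Finite.induction_on with
  | empty => simp only [Set.mem_empty_iff_false, Set.iUnion_of_empty, Set.iUnion_empty]; exact IsLocallyConstructible.empty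
  | insert _ _ ih =>
    rw [Set.biUnion_insert]
    exact (hs _ (Set.mem_insert _ _)).union (ih fun i hi => hs i (Set.mem_insert_of_mem _ hi))

theorem isLocallyConstructible_of_isClosed {Z : Scheme.{u}} [IsNoetherian Z] {C : Set Z} (hC : IsClosed C) :
    IsLocallyConstructible C := by
  have h : IsRetrocompact (Cᶜ : Set Z) := fun U _ _ => TopologicalSpace.NoetherianSpace.isCompact _
  rw [← compl_compl C]
  exact isLocallyConstructible_compl (h.isLocallyConstructible hC.isOpen_compl)

theorem isLocallyConstructible_badSet [IsNoetherian X] [LocallyOfFinitePresentation f] [Coh.IsQCoh F]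
    (hF : CohB1.IsFP F) (hFT : CohB1.IsFT F) {A Amax : Set X} (hA : A.Finite) (hAm : Amax ⊆ A) (n : ℕ) :
    IsLocallyConstructible (badSet f F A Amax n) := by
  have h1 : IsLocallyConstructible (assSet f F n) :=
    (isLocallyConstructible_support f F hF hFT).inter (isLocallyConstructible_rectDepth_eq f F hF n)
  have hw : ∀ (x : X) (m : ℕ), IsLocallyConstructible (fibWit f (closure ({x} : Set X)) m) := fun x m =>
    isLocallyConstructible_fibWit f (isLocallyConstructible_of_isClosed isClosed_closure) m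
  have h2 : ∀ x, IsLocallyConstructible (traceSet f x n) := fun x =>
    (isLocallyConstructible_of_isClosed isClosed_closure).inter (isLocallyConstructible_compl (hw x _))
  have h3 := isLocallyConstructible_biUnion hA fun x _ => h2 x
  refine ((h1.inter (isLocallyConstructible_compl h3)).union (h3.inter (isLocallyConstructible_compl h1))).union
    ((isLocallyConstructible_biUnion hA fun x _ => isLocallyConstructible_biUnion hA.diff fun x' _ => (h2 x).inter (h2 x')).union
      (isLocallyConstructible_biUnion (hA.subset hAm) fun x _ =>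
        isLocallyConstructible_biUnion hA fun x' _ => (h2 x).inter (hw x' _)))

/-- Near the generic point the associated points of the fibres are the maximal points of the traces of
the closures of those of the generic fibre. -/
theorem exists_nhd_ass [IsIntegral S] [IsNoetherian S] [LocallyOfFiniteType f] [QuasiCompact f] [Coh.IsQCoh F]
    (hF : CohB1.IsFP F) (hFT : CohB1.IsFT F) (A : Set X)
    (hA : A = {x | f.base x = genericPoint S ∧ IsFibAss f F x}) (hfin : A.Finite) :
    ∃ U : S.Opens, genericPoint S ∈ U ∧ ∀ s ∈ U,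
      (∀ z : X, f.base z = s → (IsFibAss f F z ↔ ∃ x ∈ A, IsTraceMax f x z)) ∧
      (∀ z : X, f.base z = s → ∀ x ∈ A, ∀ x' ∈ A, IsTraceMax f x z → IsTraceMax f x' z → x = x') ∧
      (∀ z : X, f.base z = s → ∀ x ∈ A, IsTraceMax f x z → (∀ y ∈ A, y ⤳ x → y = x) →
        ∀ v : X, f.base v = s → v ⤳ z → IsFibAss f F v → v = z) := by
  haveI : LocallyOfFinitePresentation f := inferInstance
  haveI : IsNoetherian X := ConsLib.isNoetherian_of_ft f
  let Amax : Set X := {x ∈ A | ∀ y ∈ A, y ⤳ x → y = x}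
  let E : ℕ → Set X := fun n => fibWit f (badSet f F A Amax n) n
  have hgood : ∀ (z : X) (n : ℕ), fibreClosureDim f z = (n : WithBot ℕ∞) → f.base z ∉ f.base '' (⋃ n, E n) →
      z ∉ badSet f F A Amax n := fun z n hn h hz =>
    h ⟨z, Set.mem_iUnion.2 ⟨n, z, hz, rfl, specializes_rfl, hn.ge⟩, rfl⟩
  have hη : genericPoint S ∈ (f.base '' ⋃ n, E n)ᶜ := by
    rintro ⟨y, hy, hfy⟩
    obtain ⟨n, z, hz, hfz, -, hm⟩ := Set.mem_iUnion.1 hy
    replace hfz : f.base z = genericPoint S := hfz.trans hfy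
    obtain ⟨δ, hδ⟩ := exists_fibreClosureDim_eq_nat f z
    rw [hδ, Nat.cast_le] at hm
    have hfx : ∀ x ∈ A, f.base x = genericPoint S := fun x hx => (hA.le hx).1
    -- a point of a trace in the generic fibre is the point itself
    have htr : ∀ x ∈ A, z ∈ traceSet f x n → x = z ∧ δ = n := by
      rintro x hx ⟨hzx, hnot⟩
      have hδn : δ = n := le_antisymm
        (by
          by_contra hlt
          exact hnot ⟨z, hzx, rfl, specializes_rfl, by rw [hδ, Nat.cast_le]; omega⟩) hm
      subst hδn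
      exact ⟨((isTraceMax_iff f hδ).2 ⟨hzx, hnot⟩).2 x ((hfx x hx).trans hfz.symm) (subset_closure rfl)
        (specializes_iff_mem_closure.2 hzx), rfl⟩
    rcases hz with (⟨hz, hnz⟩ | ⟨hz, hnz⟩) | (hz | hz)
    · obtain ⟨dd, r, a, -, -, hr, -, -, hρ'⟩ := exists_mod_numbers f F hFT hz.1
      have e1 : a + r = n := Nat.cast_injective (hρ'.symm.trans hz.2)
      have e2 : δ = r := Nat.cast_injective (hδ.symm.trans hr)
      obtain rfl : δ = n := by omega
      refine hnz (Set.mem_biUnion (hA.ge ⟨hfz, (isFibAss_iff f F hδ).2 hz⟩) ((isTraceMax_iff f hδ).1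
        ⟨subset_closure rfl, fun v _ hv hvz => (hvz.antisymm (specializes_iff_mem_closure.2 hv)).eq⟩))
    · obtain ⟨x, hx, hzx⟩ := Set.mem_iUnion₂.1 hz
      obtain ⟨rfl, rfl⟩ := htr x hx hzx
      exact hnz ((isFibAss_iff f F hδ).1 (hA.le hx).2)
    · obtain ⟨x, hx, h⟩ := Set.mem_iUnion₂.1 hz
      obtain ⟨x', ⟨hx', hne⟩, h1, h2⟩ := Set.mem_iUnion₂.1 h
      exact hne ((htr x' hx' h2).1.trans (htr x hx h1).1.symm)
    · obtain ⟨x, hx, h⟩ := Set.mem_iUnion₂.1 hz
      obtain ⟨x', hx', h1, w, hw, hfw, hwz, hmw⟩ := Set.mem_iUnion₂.1 h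
      obtain ⟨rfl, rfl⟩ := htr x hx.1 h1
      have h' : x' = x := hx.2 x' hx' ((specializes_iff_mem_closure.2 hw).trans hwz)
      subst h'
      rw [(hwz.antisymm (specializes_iff_mem_closure.2 hw)).eq, hδ, Nat.cast_le] at hmw
      omega
  have hcons : IsLocallyConstructible (f.base '' ⋃ n, E n)ᶜ :=
    isLocallyConstructible_compl (f.isLocallyConstructible_image (isLocallyConstructible_iUnion_of_bounded f E
      (fun n => isLocallyConstructible_fibWit f
        (isLocallyConstructible_badSet f F hF hFT hfin (Set.sep_subset _ _) n) n)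
      fun x n hx => assSet_le_fibreDimAt f _ x n hx))
  obtain ⟨U, hηU, hU⟩ := exists_opens_subset_of_genericPoint_mem hcons hη
  refine ⟨U, hηU, fun s hs => ⟨?_, ?_, ?_⟩⟩
  · intro z hzs
    obtain ⟨n, hn⟩ := exists_fibreClosureDim_eq_nat f z
    have hb := hgood z n hn (hzs.symm ▸ hU hs)
    rw [isFibAss_iff f F hn]
    constructor
    · intro h
      by_contra hex
      refine hb (Or.inl (Or.inl ⟨h, fun h' => hex ?_⟩))
      obtain ⟨x, hx, hxz⟩ := Set.mem_iUnion₂.1 h'
      exact ⟨x, hx, (isTraceMax_iff f hn).2 hxz⟩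
    · rintro ⟨x, hx, hxz⟩
      by_contra h
      exact hb (Or.inl (Or.inr ⟨Set.mem_biUnion hx ((isTraceMax_iff f hn).1 hxz), h⟩))
  · intro z hzs x hx x' hx' h1 h2
    obtain ⟨n, hn⟩ := exists_fibreClosureDim_eq_nat f z
    by_contra hne
    exact hgood z n hn (hzs.symm ▸ hU hs) (Or.inr (Or.inl (Set.mem_biUnion hx (Set.mem_biUnion
      ⟨hx', fun h => hne (Set.mem_singleton_iff.1 h).symm⟩
      ⟨(isTraceMax_iff f hn).1 h1, (isTraceMax_iff f hn).1 h2⟩))))
  · intro z hzs x hx hxz hxm v hvs hvz hv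
    by_contra hne
    obtain ⟨n, hn⟩ := exists_fibreClosureDim_eq_nat f z
    obtain ⟨m, hm⟩ := exists_fibreClosureDim_eq_nat f v
    have hbv := hgood v m hm (hvs.symm ▸ hU hs)
    rw [isFibAss_iff f F hm] at hv
    obtain ⟨x', hx', hx'v⟩ : ∃ x' ∈ A, v ∈ traceSet f x' m := by
      by_contra hex
      refine hbv (Or.inl (Or.inl ⟨hv, fun h' => hex ?_⟩))
      obtain ⟨x', h1, h2⟩ := Set.mem_iUnion₂.1 h'
      exact ⟨x', h1, h2⟩
    obtain ⟨c, r, -, hr, hcr, hc⟩ := closureDim_formula f (hvs.trans hzs.symm) hvz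
    have := hc hne
    rw [hn] at hr
    have h3 : n = r := Nat.cast_injective hr
    exact hgood z n hn (hzs.symm ▸ hU hs) (Or.inr (Or.inr (Set.mem_biUnion (show x ∈ Amax from ⟨hx, hxm⟩)
      (Set.mem_biUnion hx' ⟨(isTraceMax_iff f hn).1 hxz, v, hx'v.1, hvs.trans hzs.symm, hvz,
        by rw [hcr, Nat.cast_le]; omega⟩))))

end Groth.Agent.CompSetLib

namespace Groth.Agent.CompSetLib

variable {X S : Scheme.{u}} (f : X ⟶ S) (F : X.Modules)

theorem mem_ass_iff_isFibAss [LocallyOfFinitePresentation f] [Coh.IsQCoh F] (hFT : CohB1.IsFT F) (s : S)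
    (y : f.fiber s) :
    y ∈ AssSch.Ass ((Scheme.Modules.pullback (f.fiberι s)).obj F) ↔ IsFibAss f F (f.fiberι s y) := by
  have hs : f (f.fiberι s y) = s := (f.range_fiberι s).le ⟨y, rfl⟩
  generalize hx : f.fiberι s y = z at hs ⊢
  subst hs
  obtain rfl : y = f.asFiber z := (f.fiberι (f z)).isEmbedding.injective (by rw [hx, f.fiberι_asFiber])
  exact mem_ass_fibre_iff f F hFT z

theorem fiber_max_iff (s : S) (x : X) (y : f.fiber s) :
    (y ∈ (f.fiberι s).base ⁻¹' closure {x} ∧
      ∀ y' ∈ (f.fiberι s).base ⁻¹' closure {x}, y' ⤳ y → y' = y) ↔ IsTraceMax f x (f.fiberι s y) := by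
  have hs : ∀ w, f.base (f.fiberι s w) = s := fun w => (f.range_fiberι s).le ⟨w, rfl⟩
  constructor
  · rintro ⟨h1, h2⟩
    refine ⟨h1, fun v hv hvx hvy => ?_⟩
    obtain ⟨y', rfl⟩ : v ∈ Set.range (f.fiberι s) := (f.range_fiberι s).ge (hv.trans (hs y))
    rw [h2 y' hvx ((f.fiberι s).isEmbedding.isInducing.specializes_iff.1 hvy)]
  · rintro ⟨h1, h2⟩
    exact ⟨h1, fun y' hy' h => (f.fiberι s).isEmbedding.injective
      (h2 _ ((hs y').trans (hs y).symm) hy' (h.map (f.fiberι s).continuous))⟩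

theorem exists_isTraceMax [LocallyOfFiniteType f] {x z : X} (hz : z ∈ closure ({x} : Set X)) :
    ∃ v : X, f.base v = f.base z ∧ v ⤳ z ∧ IsTraceMax f x v := by
  classical
  obtain ⟨d, hd⟩ := UOpenLib.exists_fibreDimAt_eq_nat f z
  obtain ⟨δ, hδ⟩ := exists_fibreClosureDim_eq_nat f z
  have hP : ∀ n : ℕ, z ∈ fibWit f (closure ({x} : Set X)) n → n ≤ d := fun n hn => by
    have := assSet_le_fibreDimAt f _ z n hn
    rw [hd, Nat.cast_le] at this
    exact this
  have h0 : z ∈ fibWit f (closure ({x} : Set X)) δ := ⟨z, hz, rfl, specializes_rfl, hδ.ge⟩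
  obtain ⟨v, hv, hfv, hvz, hm⟩ := Nat.findGreatest_spec (P := fun n => z ∈ fibWit f (closure ({x} : Set X)) n)
    (hP δ h0) h0
  refine ⟨v, hfv, hvz, hv, fun w hfw hw hwv => ?_⟩
  by_contra hne
  obtain ⟨c, r, -, hr, hcr, hc⟩ := closureDim_formula f hfw hwv
  have := hc hne
  rw [hr, Nat.cast_le] at hm
  have hbig : z ∈ fibWit f (closure ({x} : Set X)) (c + r) := ⟨w, hw, hfw.trans hfv, hwv.trans hvz, hcr.ge⟩
  have := Nat.le_findGreatest (P := fun n => z ∈ fibWit f (closure ({x} : Set X)) n) (hP _ hbig) hbig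
  omega

end Groth.Agent.CompSetLib
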