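import Groth.Agent.DepthLib.GeomNormalOpen
import Mathlib

/-! # Geometric properties of whole fibres -/

set_option autoImplicit false
set_option backward.isDefEq.respectTransparency false
set_option linter.all false
universe u

open CategoryTheory AlgebraicGeometry Topology DepthLib

namespace Groth.Agent.CompSetLib

variable {X S : Scheme.{u}} (f : X ⟶ S)

theorem isLocallyConstructible_forall_fibre [LocallyOfFinitePresentation f] [QuasiCompact f] {G : Set X}
    (hG : IsLocallyConstructible G) (P : ∀ s : S, ↥(f.fiber s) → Prop)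
    (hP : ∀ x : X, x ∈ G ↔ P (f.base x) (f.asFiber x)) :
    IsLocallyConstructible {s : S | ∀ w : ↥(f.fiber s), P s w} := by
  have key : ∀ (s : S) (w : f.fiber s), P s w ↔ f.fiberι s w ∈ G := by
    intro s w
    have hs : f (f.fiberι s w) = s := (f.range_fiberι s).le ⟨w, rfl⟩
    generalize hx : f.fiberι s w = z at hs ⊢
    subst hs
    obtain rfl : w = f.asFiber z := (f.fiberι (f z)).isEmbedding.injective (by rw [hx, f.fiberι_asFiber])
    exact (hP z).symm
  have h : {s : S | ∀ w : ↥(f.fiber s), P s w} = (f.base '' Gᶜ)ᶜ := by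
    ext s
    constructor
    · rintro h ⟨x, hx, rfl⟩
      exact hx ((hP x).2 (h _))
    · intro h w
      rw [key]
      by_contra hw
      exact h ⟨_, hw, (f.range_fiberι s).le ⟨w, rfl⟩⟩
  rw [h]
  exact isLocallyConstructible_compl (f.isLocallyConstructible_image (isLocallyConstructible_compl hG))

theorem geomNormal_fibre_iff [LocallyOfFinitePresentation f] (x : X) :
    x ∈ {x : X | ∀ (K : Type u) [Field K] [Algebra (IsLocalRing.ResidueField (S.presheaf.stalk (f.base x))) K]
        (x' : ↥(FBase.bc (f.fiberToSpecResidueField (f.base x)) K)),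
        (FBase.bcπ (f.fiberToSpecResidueField (f.base x)) K).base x' = f.asFiber x →
          LocCoh.HasRk 1 ((FBase.bc (f.fiberToSpecResidueField (f.base x)) K).presheaf.stalk x')} ∩
      {x : X | LocCoh.HasSk 2 ((f.fiber (f.base x)).presheaf.stalk (f.asFiber x))
        ((f.fiber (f.base x)).presheaf.stalk (f.asFiber x))} ↔
    ∀ (K : Type u) [Field K] [Algebra (IsLocalRing.ResidueField (S.presheaf.stalk (f.base x))) K]
      (x' : ↥(FBase.bc (f.fiberToSpecResidueField (f.base x)) K)),
      (FBase.bcπ (f.fiberToSpecResidueField (f.base x)) K).base x' = f.asFiber x →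
        IsDomain ((FBase.bc (f.fiberToSpecResidueField (f.base x)) K).presheaf.stalk x') ∧
          IsIntegrallyClosed ((FBase.bc (f.fiberToSpecResidueField (f.base x)) K).presheaf.stalk x') := by
  haveI hlfp : ∀ s : S, LocallyOfFinitePresentation (f.fiberToSpecResidueField s) := fun s =>
    MorphismProperty.pullback_snd _ _ inferInstance
  have h := @geomNormal_iff _ _ _ (f.fiberToSpecResidueField (f.base x)) (hlfp (f.base x)) (f.asFiber x)
    (fun _ _ _ => True) trivial
  exact ⟨fun hx K _ _ x' hx' => h.2 ⟨fun K _ _ _ y hy => hx.1 K y hy, hx.2⟩ K trivial x' hx',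
    fun hx => ⟨fun K _ _ y hy => (h.1 fun K _ _ _ y hy => hx K y hy).1 K trivial y hy,
      (h.1 fun K _ _ _ y hy => hx K y hy).2⟩⟩

end Groth.Agent.CompSetLib
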