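import Groth.Agent.DepthLib.ModOpen
import Groth.Agent.FibDimLib.ClosureDim
import Mathlib

/-! # Dimensions of components and of associated prime cycles of the fibres of constructible sets -/

set_option autoImplicit false
set_option backward.isDefEq.respectTransparency false
set_option linter.all false
universe u

open CategoryTheory AlgebraicGeometry Topology IsLocalRing CommAlgDim UOpenLib DepthLib

namespace Groth.Agent.CompSetLib

/-- The irreducible components of a sober space are the closures of its maximal points. -/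
theorem exists_component_dim_iff {A : Type u} [TopologicalSpace A] [QuasiSober A] [T0Space A] (d : WithBot ℕ∞) :
    d ∈ (fun T : Set A => topologicalKrullDim ↥T) '' irreducibleComponents A ↔
      ∃ w : A, (∀ v, v ⤳ w → v = w) ∧ topologicalKrullDim ↥(closure ({w} : Set A)) = d := by
  constructor
  · rintro ⟨T, hT, rfl⟩
    have hg : IsGenericPoint (IsIrreducible.genericPoint hT.1) T := by
      have := IsIrreducible.isGenericPoint_genericPoint_closure hT.1
      rwa [(isClosed_of_mem_irreducibleComponents T hT).closure_eq] at this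
    refine ⟨IsIrreducible.genericPoint hT.1, fun v hv => (hv.antisymm ?_).eq, congrArg (fun T : Set A => topologicalKrullDim ↥T) hg.def⟩
    exact hg.specializes (hT.2 isIrreducible_singleton.closure (hg.def.symm.le.trans hv.closure_subset) (subset_closure rfl))
  · rintro ⟨w, hmax, rfl⟩
    refine ⟨closure {w}, ⟨isIrreducible_singleton.closure, fun Z hZ hle v hv => ?_⟩, rfl⟩
    have hgen := IsIrreducible.isGenericPoint_genericPoint_closure hZ
    have h1 := hmax _ (hgen.specializes (subset_closure (hle (subset_closure rfl))))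
    rw [← h1, hgen.def]
    exact subset_closure hv

variable {X S : Scheme.{u}} (f : X ⟶ S)

theorem closureDim_fiber_eq (s : S) (w : f.fiber s) :
    topologicalKrullDim ↥(closure ({w} : Set (f.fiber s))) = fibreClosureDim f (f.fiberι s w) := by
  have hs : f (f.fiberι s w) = s := (f.range_fiberι s).le ⟨w, rfl⟩
  generalize hx : f.fiberι s w = z at hs ⊢
  subst hs
  obtain rfl : w = f.asFiber z := (f.fiberι (f z)).isEmbedding.injective (by rw [hx, f.fiberι_asFiber])
  rfl

/-- The points of `Z` above which the fibre of `Z` has largest dimension `n` through generizations. -/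
def compSet (Z : Set X) (n : ℕ) : Set X := Z ∩ (fibWit f Z n ∩ (fibWit f Z (n + 1))ᶜ)

theorem componentDims_iff [LocallyOfFinitePresentation f] {s : S} {A : Type u} [TopologicalSpace A] (Z : Set X)
    (e : A → f.fiber s) (he : IsEmbedding e) (hr : Set.range e = (f.fiberι s).base ⁻¹' Z)
    (hlc : IsLocallyClosed (Set.range e)) (d : WithBot ℕ∞) :
    d ∈ (fun T : Set A => topologicalKrullDim ↥T) '' irreducibleComponents A ↔
      ∃ n : ℕ, d = n ∧ s ∈ f.base '' compSet f Z n := by
  haveI := lft_fiberToSpec f s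
  obtain ⟨O, K, hO, hK, hOK⟩ := hlc
  have hmem : ∀ a, e a ∈ O := fun a => ((hOK.le ⟨a, rfl⟩)).1
  haveI : LocallyOfFiniteType (Over.mk (f.fiberToSpecResidueField s)).hom :=
    inferInstanceAs (LocallyOfFiniteType (f.fiberToSpecResidueField s))
  let W : (f.fiber s).Opens := ⟨O, hO⟩
  let e' : A → W := fun a => ⟨e a, hmem a⟩
  have he' : IsClosedEmbedding e' := by
    refine ⟨IsEmbedding.of_comp (he.continuous.subtype_mk _) continuous_subtype_val he, ?_⟩
    have : Set.range e' = Subtype.val ⁻¹' K := by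
      ext ⟨w, hw⟩
      constructor
      · rintro ⟨a, ha⟩
        rw [← ha]
        exact (hOK.le ⟨a, rfl⟩).2
      · intro hwK
        obtain ⟨a, ha⟩ := hOK.ge ⟨hw, hwK⟩
        exact ⟨a, Subtype.ext ha⟩
    rw [this]
    exact hK.preimage continuous_subtype_val
  haveI : QuasiSober ↥W := inferInstanceAs (QuasiSober W.toScheme)
  haveI : QuasiSober A := he'.quasiSober
  haveI : T0Space A := he.t0Space
  have hdim : ∀ a : A, topologicalKrullDim ↥(closure ({a} : Set A)) = fibreClosureDim f (f.fiberι s (e a)) := by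
    intro a
    rw [← closureDim_fiber_eq,
      ← FibDimLib.topologicalKrullDim_closure_open (k := S.residueField s) (Over.mk (f.fiberToSpecResidueField s)) W (e' a)]
    have h2 : e' '' closure {a} = closure ({e' a} : Set W) := by
      rw [← he'.closure_image_eq, Set.image_singleton]
    exact IsHomeomorph.topologicalKrullDim_eq _
      ((he'.isEmbedding.homeomorphImage (closure {a})).trans (Homeomorph.setCongr h2)).isHomeomorph
  have hZ : ∀ a, (f.fiberι s).base (e a) ∈ Z := fun a => hr.le ⟨a, rfl⟩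
  have hfs : ∀ w : f.fiber s, f.base (f.fiberι s w) = s := fun w => (f.range_fiberι s).le ⟨w, rfl⟩
  rw [exists_component_dim_iff]
  constructor
  · rintro ⟨a, hmax, rfl⟩
    obtain ⟨n, hn⟩ := exists_fibreClosureDim_eq_nat f (f.fiberι s (e a))
    refine ⟨n, (hdim a).trans hn, _, ⟨hZ a, ⟨_, hZ a, rfl, specializes_rfl, hn.ge⟩, ?_⟩, hfs _⟩
    rintro ⟨z, hz, hfz, hzx, hm⟩
    obtain ⟨w, rfl⟩ : z ∈ Set.range (f.fiberι s) := (f.range_fiberι s).ge (hfz.trans (hfs _))
    obtain ⟨b, rfl⟩ := hr.ge hz
    have hba : b = a := hmax b (he.isInducing.specializes_iff.1 ((f.fiberι s).isEmbedding.isInducing.specializes_iff.1 hzx))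
    subst hba
    rw [hn, Nat.cast_le] at hm
    omega
  · rintro ⟨n, rfl, x, ⟨-, ⟨z, hzZ, hfz, hzx, hm⟩, hnot⟩, hxs⟩
    obtain ⟨w, rfl⟩ : z ∈ Set.range (f.fiberι s) := (f.range_fiberι s).ge (hfz.trans hxs)
    obtain ⟨a, rfl⟩ := hr.ge hzZ
    obtain ⟨m, hm'⟩ := exists_fibreClosureDim_eq_nat f (f.fiberι s (e a))
    rw [hm', Nat.cast_le] at hm
    have hmn : m = n := by
      by_contra hne
      exact hnot ⟨_, hzZ, hfz, hzx, by rw [hm', Nat.cast_le]; omega⟩
    refine ⟨a, fun b hb => ?_, (hdim a).trans (hm'.trans (by rw [hmn]))⟩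
    by_contra hne
    have hsp : f.fiberι s (e b) ⤳ f.fiberι s (e a) := (hb.map he.continuous).map (f.fiberι s).continuous
    obtain ⟨c, r, -, hr', hcr, hc⟩ := closureDim_formula f ((hfs _).trans (hfs _).symm) hsp
    have h1 := hc (fun h => hne (he.injective ((f.fiberι s).isEmbedding.injective h)))
    rw [hm'] at hr'
    have h3 : m = r := Nat.cast_injective hr'
    exact hnot ⟨_, hZ b, (hfs _).trans hxs.symm, hsp.trans hzx, by rw [hcr, Nat.cast_le]; omega⟩

theorem compSet_le_fibreDimAt [LocallyOfFiniteType f] (Z : Set X) (x : X) (n : ℕ) (h : x ∈ compSet f Z n) :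
    (n : WithBot ℕ∞) ≤ FlatMor.fibreDimAt f x := by
  obtain ⟨-, ⟨z, -, -, hzx, hm⟩, -⟩ := h
  exact hm.trans (fibreClosureDim_le_fibreDimAt f hzx)

theorem isLocallyConstructible_compSet [LocallyOfFinitePresentation f] {Z : Set X}
    (hZ : IsLocallyConstructible Z) (n : ℕ) : IsLocallyConstructible (compSet f Z n) :=
  hZ.inter ((isLocallyConstructible_fibWit f hZ n).inter
    (isLocallyConstructible_compl (isLocallyConstructible_fibWit f hZ (n + 1))))

/-- A set of numbers read off from constructible sets on the source has constructible level sets. -/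
theorem isLocallyConstructible_levelSet [LocallyOfFinitePresentation f] [QuasiCompact f] (D : S → Set (WithBot ℕ∞))
    (E : ℕ → Set X) (hE : ∀ n, IsLocallyConstructible (E n))
    (hb : ∀ (x : X) (n : ℕ), x ∈ E n → (n : WithBot ℕ∞) ≤ FlatMor.fibreDimAt f x)
    (hD : ∀ s d, d ∈ D s ↔ ∃ n : ℕ, d = n ∧ s ∈ f.base '' E n)
    (Φ : Set (WithBot ℕ∞)) (hΦ : Φ.Finite) : IsLocallyConstructible {s : S | D s = Φ} := by
  classical
  let E' : ℕ → Set X := fun n => if (n : WithBot ℕ∞) ∈ Φ then ∅ else E n
  have h : {s : S | D s = Φ} = (⋂ d ∈ Φ, {s | d ∈ D s}) ∩ (f.base '' ⋃ n, E' n)ᶜ := by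
    ext s
    simp only [Set.mem_setOf_eq, Set.mem_inter_iff, Set.mem_iInter, Set.mem_compl_iff]
    constructor
    · rintro rfl
      refine ⟨fun d hd => hd, ?_⟩
      rintro ⟨x, hx, rfl⟩
      obtain ⟨n, hn⟩ := Set.mem_iUnion.1 hx
      by_cases hnΦ : (n : WithBot ℕ∞) ∈ D (f.base x)
      · rw [show E' n = _ from if_pos hnΦ] at hn; exact hn.elim
      · rw [show E' n = _ from if_neg hnΦ] at hn
        exact hnΦ ((hD _ _).2 ⟨n, rfl, x, hn, rfl⟩)
    · rintro ⟨h1, h2⟩
      refine Set.Subset.antisymm (fun d hd => ?_) h1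
      obtain ⟨n, rfl, x, hx, hxs⟩ := (hD s d).1 hd
      by_contra hnΦ
      exact h2 ⟨x, Set.mem_iUnion.2 ⟨n, by rw [show E' n = _ from if_neg hnΦ]; exact hx⟩, hxs⟩
  rw [h]
  refine IsLocallyConstructible.inter ?_ (isLocallyConstructible_compl (f.isLocallyConstructible_image
    (isLocallyConstructible_iUnion_of_bounded f E' (fun n => ?_) fun x n hx => ?_)))
  · have hsec : ∀ d : WithBot ℕ∞, IsLocallyConstructible {s : S | d ∈ D s} := by
      intro d
      by_cases hd : ∃ n : ℕ, d = n
      · obtain ⟨n, rfl⟩ := hd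
        have : {s : S | (n : WithBot ℕ∞) ∈ D s} = f.base '' E n := by
          ext s
          rw [Set.mem_setOf_eq, hD]
          refine ⟨?_, fun h => ⟨n, rfl, h⟩⟩
          rintro ⟨m, hm, h⟩
          rwa [Nat.cast_injective hm]
        rw [this]
        exact f.isLocallyConstructible_image (hE n)
      · have : {s : S | d ∈ D s} = ∅ := Set.eq_empty_iff_forall_notMem.2 fun s hs => by
          obtain ⟨n, hn, -⟩ := (hD s d).1 hs
          exact hd ⟨n, hn⟩
        rw [this]
        exact IsLocallyConstructible.empty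
    refine Set.Finite.induction_on _ hΦ ?_ ?_
    · simp only [Set.mem_empty_iff_false, Set.iInter_of_empty, Set.iInter_univ]
      exact IsLocallyConstructible.univ
    · intro d t _ _ ih
      rw [Set.biInter_insert]
      exact (hsec d).inter ih
  · by_cases hnΦ : (n : WithBot ℕ∞) ∈ Φ
    · rw [show E' n = _ from if_pos hnΦ]; exact IsLocallyConstructible.empty
    · rw [show E' n = _ from if_neg hnΦ]; exact hE n
  · by_cases hnΦ : (n : WithBot ℕ∞) ∈ Φ
    · rw [show E' n = _ from if_pos hnΦ] at hx; exact hx.elim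
    · rw [show E' n = _ from if_neg hnΦ] at hx; exact hb x n hx

/-- The dimensions of the closures of the associated points of a fibre. -/
theorem assDims_iff [LocallyOfFinitePresentation f] (F : X.Modules) [Coh.IsQCoh F] (hFT : CohB1.IsFT F) (s : S)
    (d : WithBot ℕ∞) :
    d ∈ (fun z : ↥(f.fiber s) => topologicalKrullDim ↥(closure ({z} : Set ↥(f.fiber s)))) ''
          AssSch.Ass ((Scheme.Modules.pullback (f.fiberι s)).obj F) ↔
      ∃ n : ℕ, d = n ∧ s ∈ f.base ''
        fibWit f (CohB1.support F ∩ {z | rectDepth f F z = ((n : ℕ∞) : WithBot ℕ∞)}) n := by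
  constructor
  · rintro ⟨w, hw, rfl⟩
    have hs : f (f.fiberι s w) = s := (f.range_fiberι s).le ⟨w, rfl⟩
    revert hw
    generalize hx : f.fiberι s w = z at hs
    subst hs
    obtain rfl : w = f.asFiber z := (f.fiberι (f z)).isEmbedding.injective (by rw [hx, f.fiberι_asFiber])
    intro hw
    obtain ⟨hzs, hρ⟩ := (mem_ass_fibre_iff f F hFT z).1 hw
    obtain ⟨r, hr⟩ := exists_fibreClosureDim_eq_nat f z
    exact ⟨r, hr, z, ⟨z, ⟨hzs, hρ.trans hr⟩, rfl, specializes_rfl, hr.ge⟩, rfl⟩
  · rintro ⟨n, rfl, x, ⟨z, ⟨hzs, hρ⟩, hfz, -, hm⟩, rfl⟩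
    obtain ⟨dd, r, a, -, -, hr, -, -, hρ'⟩ := exists_mod_numbers f F hFT hzs
    rw [hr, Nat.cast_le] at hm
    have e1 : a + r = n := Nat.cast_injective (hρ'.symm.trans hρ)
    have hass : f.asFiber z ∈ AssSch.Ass ((Scheme.Modules.pullback (f.fiberι (f.base z))).obj F) :=
      (mem_ass_fibre_iff f F hFT z).2 ⟨hzs, by rw [hρ', hr, show a = 0 by omega, zero_add]⟩
    rw [← hfz]
    exact ⟨f.asFiber z, hass, (hr : fibreClosureDim f z = _).trans (by rw [show r = n by omega])⟩

theorem assSet_le_fibreDimAt [LocallyOfFiniteType f] (L : Set X) (x : X) (n : ℕ) (h : x ∈ fibWit f L n) :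
    (n : WithBot ℕ∞) ≤ FlatMor.fibreDimAt f x := by
  obtain ⟨z, -, -, hzx, hm⟩ := h
  exact hm.trans (fibreClosureDim_le_fibreDimAt f hzx)

end Groth.Agent.CompSetLib
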