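import Groth.Agent.CompSetLib.Main
import Groth.Agent.FlatInjLib.RelAssBC
import Mathlib

/-! # Relative associated points are the associated points of the fibres -/

set_option autoImplicit false
set_option backward.isDefEq.respectTransparency false
set_option linter.all false
universe u

open CategoryTheory AlgebraicGeometry Topology IsLocalRing DepthLib
open scoped TensorProduct

namespace Groth.Agent.CompSetLib

variable {X S : Scheme.{u}} (f : X ⟶ S) (F : X.Modules)

theorem fiberι_mem_relAss_iff [Coh.IsQCoh F] (s : S) (y : f.fiber s) :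
    f.fiberι s y ∈ MoreMor.relAss f F ↔ y ∈ AssSch.Ass ((Scheme.Modules.pullback (f.fiberι s)).obj F) := by
  let ι := f.fiberι s
  let O := X.presheaf.stalk (ι y)
  let Q := (f.fiber s).presheaf.stalk y
  obtain ⟨hsurj, hker⟩ := Groth.Agent.S9501.result f s y
  letI : Algebra O Q := (ι.stalkMap y).hom.toAlgebra
  obtain ⟨e, -⟩ := CohCmpLib.exists_stalkPullEquiv ι F y
  exact (FlatInjLib.isAssociatedPrime_quot_iff (N := CohCmpLib.stk F (ι y)) hsurj _ hker).trans
    (LinearEquiv.isAssociatedPrime_iff e)

theorem mem_relAss_iff [Coh.IsQCoh F] (z : X) :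
    z ∈ MoreMor.relAss f F ↔
      f.asFiber z ∈ AssSch.Ass ((Scheme.Modules.pullback (f.fiberι (f.base z))).obj F) := by
  rw [← fiberι_mem_relAss_iff f F (f.base z) (f.asFiber z), f.fiberι_asFiber]

/-- The bases points over which all relative associated points lie in a locally constructible set. -/
theorem isLocallyConstructible_relAss_subset [LocallyOfFinitePresentation f] [QuasiCompact f] [Coh.IsQCoh F]
    (hF : CohB1.IsFP F) (hFT : CohB1.IsFT F) {U : Set X} (hU : IsLocallyConstructible U) :
    IsLocallyConstructible {y : S | ∀ x ∈ MoreMor.relAss f F, f x = y → x ∈ U} := by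
  let L : ℕ → Set X := fun n => Uᶜ ∩ (CohB1.support F ∩ {z | rectDepth f F z = ((n : ℕ∞) : WithBot ℕ∞)})
  have h : {y : S | ∀ x ∈ MoreMor.relAss f F, f x = y → x ∈ U} = (f.base '' ⋃ n, fibWit f (L n) n)ᶜ := by
    ext y
    simp only [Set.mem_setOf_eq, Set.mem_compl_iff]
    constructor
    · rintro h ⟨x, hx, rfl⟩
      obtain ⟨n, z, ⟨hzU, hzs, hρ⟩, hfz, -, hm⟩ := Set.mem_iUnion.1 hx
      obtain ⟨dd, r, a, -, -, hr, -, -, hρ'⟩ := exists_mod_numbers f F hFT hzs
      rw [hr, Nat.cast_le] at hm
      have e1 : a + r = n := Nat.cast_injective (hρ'.symm.trans hρ)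
      exact hzU (h z ((mem_relAss_iff f F z).2 ((mem_ass_fibre_iff f F hFT z).2
        ⟨hzs, by rw [hρ', hr, show a = 0 by omega, zero_add]⟩)) hfz)
    · intro h x hx hxy
      by_contra hxU
      obtain ⟨hxs, hρ⟩ := (mem_ass_fibre_iff f F hFT x).1 ((mem_relAss_iff f F x).1 hx)
      obtain ⟨r, hr⟩ := UOpenLib.exists_fibreClosureDim_eq_nat f x
      exact h ⟨x, Set.mem_iUnion.2 ⟨r, x, ⟨hxU, hxs, hρ.trans hr⟩, rfl, specializes_rfl, hr.ge⟩, hxy⟩
  rw [h]
  exact isLocallyConstructible_compl (f.isLocallyConstructible_image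
    (isLocallyConstructible_iUnion_of_bounded f _ (fun n => isLocallyConstructible_fibWit f
      ((isLocallyConstructible_compl hU).inter ((isLocallyConstructible_support f F hF hFT).inter
        (isLocallyConstructible_rectDepth_eq f F hF n))) n)
      fun x n hx => assSet_le_fibreDimAt f _ x n hx))

end Groth.Agent.CompSetLib
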